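import Cfsg.Agent.Lib.TwistCover.Twisted
import Cfsg.Agent.Lib.Twisted.D4Simple
import Cfsg.Agent.Lib.Twisted.D4Torus

/-!
The twisted groups of type D4 have no proper perfect central extension with kernel of order prime to
the characteristic.
-/

set_option autoImplicit false

namespace CfsgLib.TwistCover.D4

open Cfsg.Lie CfsgLib.Chev CfsgLib.Twisted CfsgLib.Twisted.D4

/-- Words for the twelve elements of the group of the orbit reflections. -/
def words : List (List ℕ) :=
  [[], [1], [3], [1, 3], [3, 1], [1, 3, 1], [3, 1, 3], [1, 3, 1, 3], [3, 1, 3, 1], [1, 3, 1, 3, 1],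
    [3, 1, 3, 1, 3], [3, 1, 3, 1, 3, 1]]

theorem refl_ok : reflTest sym words = true := by decide +kernel

theorem setup : Setup chevD4 tb sym hts words :=
  ⟨CfsgLib.Chev.D4.checked, sym_test, comm_one, orbit_ok, sym_nodeTest, sym_bnTest, refl_ok⟩

/-- The part of the multiplier prime to the characteristic is trivial. -/
theorem pprime_injective {K : Type*} [Field K] [Fintype K] {p : ℕ} [Fact p.Prime] [CharP K p]
    (φ : K ≃+* K) {Γ : Type*} [Group Γ] [Finite Γ] (σ : Γ →* ↥(twistGrp sym_test φ))
    (hs : Function.Surjective σ) (hc : σ.ker ≤ Subgroup.center Γ) (hco : ¬ p ∣ Nat.card σ.ker)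
    (hperf : commutator Γ = ⊤) : Function.Injective σ :=
  CfsgLib.TwistCover.pprime_injective setup φ (fun _ hf hk => fixed_ker_trivial φ hf hk) rfl σ hs hc
    hco hperf

end CfsgLib.TwistCover.D4
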