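import Cfsg.Agent.Lib.TwistCover.Lift
import Cfsg.Agent.Lib.Schur.SL2
import Cfsg.Agent.Lib.Schur.Sylow

/-!
Lifts of the rank one subgroups isomorphic to `SL(2, q)` meet a kernel of order prime to `p` trivially.
-/

set_option autoImplicit false

namespace CfsgLib.TwistCover

open Subgroup
open scoped MatrixGroups

variable {p : ℕ} [Fact p.Prime] {F : Type*} [Field F] [Finite F] [CharP F p]
  {Γ G : Type*} [Group Γ] [Group G] [Finite Γ] {σ : Γ →* G}

/-- A subgroup generated by `p`-elements, whose image lies in a copy of `SL(2, F)`, meets a central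
kernel of order prime to `p` trivially. -/
theorem inf_ker_eq_bot (hc : σ.ker ≤ center Γ) (hco : ¬ p ∣ Nat.card σ.ker)
    (ι : SL(2, F) →* G) (hι : Function.Injective ι) (W : Set Γ) (hW : ∀ w ∈ W, IsPElt p w)
    (hσ : ∀ w ∈ W, σ w ∈ ι.range) : Subgroup.closure W ⊓ σ.ker = ⊥ := by
  classical
  set K := Subgroup.closure W
  let τ : K →* G := σ.comp K.subtype
  have hτc : τ.ker ≤ center K := fun z hz =>
    mem_center_iff.2 fun g => Subtype.ext (mem_center_iff.1 (hc (show σ z.1 = 1 from hz)) g)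
  -- the kernel lies in the derived subgroup: the abelianization is a `p`-group
  have hab : ∀ z : K, ∃ k, (Abelianization.of z) ^ p ^ k = 1 := by
    rintro ⟨z, hz⟩
    induction hz using Subgroup.closure_induction with
    | mem x hx =>
      obtain ⟨k, hk⟩ := hW x hx
      refine ⟨k, ?_⟩
      rw [← map_pow]
      have : (⟨x, Subgroup.subset_closure hx⟩ : K) ^ p ^ k = 1 := Subtype.ext hk
      rw [this, map_one]
    | one => exact ⟨0, by rw [pow_zero, pow_one]; exact map_one _⟩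
    | mul x y hx hy hx' hy' =>
      obtain ⟨a, ha⟩ := hx'
      obtain ⟨b, hb⟩ := hy'
      refine ⟨a + b, ?_⟩
      rw [show (⟨x * y, mul_mem hx hy⟩ : K) = ⟨x, hx⟩ * ⟨y, hy⟩ from rfl, map_mul, mul_pow,
        pow_add, pow_mul, ha, one_pow, one_mul, mul_comm, pow_mul, hb, one_pow]
    | inv x hx hx' =>
      obtain ⟨a, ha⟩ := hx'
      refine ⟨a, ?_⟩
      rw [show (⟨x⁻¹, inv_mem hx⟩ : K) = ⟨x, hx⟩⁻¹ from rfl, map_inv, inv_pow, ha, inv_one]
  have hcard : Nat.card τ.ker ∣ Nat.card σ.ker :=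
    Subgroup.card_dvd_of_injective ((K.subtype.comp τ.ker.subtype).codRestrict σ.ker fun z => z.2)
      (fun a b h => Subtype.ext (Subtype.ext (congrArg (fun z : σ.ker => (z : Γ)) h)))
  have hτd : τ.ker ≤ _root_.commutator K := by
    intro z hz
    rw [← Abelianization.ker_of, MonoidHom.mem_ker]
    obtain ⟨k, hk⟩ := hab z
    have h2 : (Abelianization.of z) ^ Nat.card σ.ker = 1 := by
      have : z ^ Nat.card σ.ker = 1 := Subtype.ext (by
        have h := congrArg Subtype.val (pow_card_eq_one' (G := σ.ker) (x := ⟨z.1, hz⟩))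
        exact h)
      rw [← map_pow, this, map_one]
    exact orderOf_eq_one_iff.1 (Nat.eq_one_of_dvd_coprimes
      ((((Fact.out : p.Prime).coprime_iff_not_dvd).2 hco).pow_left k)
      (orderOf_dvd_of_pow_eq_one hk) (orderOf_dvd_of_pow_eq_one h2))
  have hrange : ∀ z : K, τ z ∈ ι.range := fun z =>
    ((Subgroup.closure_le (ι.range.comap σ)).2 hσ : K ≤ _) z.2
  let ρ : K →* SL(2, F) := (MonoidHom.ofInjective hι).symm.toMonoidHom.comp (τ.codRestrict _ hrange)
  have hρ : ρ.ker = τ.ker := by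
    ext z
    simp only [ρ, MonoidHom.mem_ker, MonoidHom.comp_apply, MulEquiv.coe_toMonoidHom,
      MulEquiv.map_eq_one_iff, Subtype.ext_iff]
    rfl
  have hone : Nat.card τ.ker = 1 := by
    by_contra h1
    obtain ⟨r, hr, hdvd⟩ := Nat.exists_prime_and_dvd h1
    haveI := Fact.mk hr
    have hrp : r ≠ p := fun e => hco (e ▸ hdvd.trans hcard)
    let P : Sylow r K := default
    have hno : ¬ r ∣ Nat.card ρ.ker := by
      rcases CfsgLib.SchurSL2.cyclic_or_quaternion (p := p) hrp ((P : Subgroup K).map ρ) (P.2.map ρ) with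
        hcy | ⟨a, b, n, hgen, hab, hb, hord⟩
      · exact CfsgLib.SchurSylow.not_dvd_card_ker_of_cyclic ρ (hρ ▸ hτc) (hρ ▸ hτd) P
      · exact CfsgLib.SchurSylow.not_dvd_card_ker_of_quaternion ρ (hρ ▸ hτc) (hρ ▸ hτd) P hgen hab hb hord
    rw [hρ] at hno
    exact hno hdvd
  rw [eq_bot_iff]
  rintro z ⟨hzK, hz⟩
  have : (⟨z, hzK⟩ : K) = 1 := congrArg Subtype.val ((Nat.card_eq_one_iff_unique.1 hone).1.allEq
    (⟨⟨z, hzK⟩, hz⟩ : τ.ker) 1)
  exact mem_bot.2 (congrArg Subtype.val this)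

end CfsgLib.TwistCover
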