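import Mathlib.GroupTheory.SchurZassenhaus
import Mathlib.GroupTheory.PGroup
import Mathlib.GroupTheory.Sylow

/-!
Lifts of `p`-subgroups to a central extension whose kernel has order prime to `p`.
-/

set_option autoImplicit false

namespace CfsgLib.TwistCover

open Subgroup

variable {Γ G : Type*} [Group Γ] [Group G]

/-- An element of `p`-power order. -/
def IsPElt (p : ℕ) (e : Γ) : Prop := ∃ k : ℕ, e ^ p ^ k = 1

theorem IsPElt.conj {p : ℕ} {e : Γ} (h : IsPElt p e) (g : Γ) : IsPElt p (g * e * g⁻¹) := by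
  obtain ⟨k, hk⟩ := h
  exact ⟨k, by rw [conj_pow, hk, mul_one, mul_inv_cancel]⟩

/-- The subgroup generated by the elements of `p`-power order over a subgroup. -/
def lifts (p : ℕ) (σ : Γ →* G) (P : Subgroup G) : Subgroup Γ :=
  Subgroup.closure {e | σ e ∈ P ∧ IsPElt p e}

variable {p : ℕ} {σ : Γ →* G}

theorem mem_lifts {P : Subgroup G} {e : Γ} (h : σ e ∈ P) (h' : IsPElt p e) : e ∈ lifts p σ P :=
  Subgroup.subset_closure ⟨h, h'⟩

theorem lifts_mono {P Q : Subgroup G} (h : P ≤ Q) : lifts p σ P ≤ lifts p σ Q :=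
  Subgroup.closure_mono fun _ he => ⟨h he.1, he.2⟩

theorem lifts_le_comap (P : Subgroup G) : lifts p σ P ≤ P.comap σ :=
  (Subgroup.closure_le _).2 fun _ he => he.1

/-- A conjugation carries lifts to lifts. -/
theorem conj_mem_lifts {P Q : Subgroup G} {g e : Γ} (h : ∀ x ∈ P, σ g * x * (σ g)⁻¹ ∈ Q)
    (he : e ∈ lifts p σ P) : g * e * g⁻¹ ∈ lifts p σ Q := by
  induction he using Subgroup.closure_induction with
  | mem x hx => exact mem_lifts (by rw [map_mul, map_mul, map_inv]; exact h _ hx.1) (hx.2.conj g)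
  | one => simp
  | mul x y _ _ hx hy =>
    rw [show g * (x * y) * g⁻¹ = (g * x * g⁻¹) * (g * y * g⁻¹) by group]
    exact mul_mem hx hy
  | inv x _ hx =>
    rw [show g * x⁻¹ * g⁻¹ = (g * x * g⁻¹)⁻¹ by group]
    exact inv_mem hx

variable [Fact p.Prime] [Finite Γ]

/-- A complement of the kernel in the preimage of a `p`-subgroup consists of all its `p`-elements. -/
theorem exists_complement (hc : σ.ker ≤ center Γ) (hco : ¬ p ∣ Nat.card σ.ker) {P : Subgroup G}
    (hP : IsPGroup p P) (hs : P ≤ σ.range) :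
    ∃ C : Subgroup Γ, IsPGroup p C ∧ C ⊓ σ.ker = ⊥ ∧ C.map σ = P ∧
      ∀ e : Γ, σ e ∈ P → IsPElt p e → e ∈ C := by
  set M := P.comap σ
  set N := σ.ker.subgroupOf M
  have hNM : σ.ker ≤ M := fun e he => by
    show σ e ∈ P
    rw [MonoidHom.mem_ker.1 he]; exact P.one_mem
  have : N.Normal := inferInstanceAs (σ.ker.subgroupOf M).Normal
  obtain ⟨a, hN⟩ : ∃ a, N.index = p ^ a := by
    have h1 : N.index = Nat.card P := by
      have : N = (σ.subgroupComap P).ker := by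
        ext x
        simp only [N, Subgroup.mem_subgroupOf, MonoidHom.mem_ker]
        exact ⟨fun h => Subtype.ext h, fun h => congrArg Subtype.val h⟩
      rw [this, Subgroup.index_ker]
      refine Nat.card_congr ?_
      refine (Equiv.ofBijective (fun x => (x : ↥P)) ⟨Subtype.val_injective, fun x => ⟨⟨x, ?_⟩, rfl⟩⟩)
      obtain ⟨e, he⟩ := hs x.2
      exact ⟨⟨e, show σ e ∈ P from he ▸ x.2⟩, Subtype.ext he⟩
    have : Finite σ.range := Finite.of_surjective σ.rangeRestrict σ.rangeRestrict_surjective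
    have : Finite ↥P := Finite.of_injective _
      (fun (x y : ↥P) (h : (⟨x.1, hs x.2⟩ : σ.range) = ⟨y.1, hs y.2⟩) =>
        Subtype.ext (congrArg (fun z : σ.range => (z : G)) h))
    obtain ⟨a, ha⟩ := (IsPGroup.iff_card).1 hP
    exact ⟨a, h1.trans ha⟩
  have hcop : Nat.Coprime (Nat.card N) N.index := by
    rw [Nat.card_congr (Subgroup.subgroupOfEquivOfLe hNM).toEquiv, hN]
    exact (((Fact.out : p.Prime).coprime_iff_not_dvd).2 hco).symm.pow_right a
  obtain ⟨C, hC⟩ := Subgroup.exists_right_complement'_of_coprime hcop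
  refine ⟨C.map M.subtype, ?_, ?_, ?_, ?_⟩
  · refine IsPGroup.map ?_ _
    refine IsPGroup.of_card (n := a) ?_
    rw [← hN, hC.symm.index_eq_card]
  · rw [eq_bot_iff]
    rintro e ⟨⟨x, hx, rfl⟩, he⟩
    have : x ∈ N ⊓ C := ⟨he, hx⟩
    rw [hC.isCompl.inf_eq_bot] at this
    rw [Subgroup.mem_bot] at this ⊢
    rw [this]; rfl
  · apply le_antisymm
    · rintro _ ⟨_, ⟨x, -, rfl⟩, rfl⟩
      exact x.2
    · intro y hy
      obtain ⟨e, rfl⟩ := hs hy
      obtain ⟨⟨⟨n, hn⟩, ⟨c, hc'⟩⟩, hnc⟩ := (hC.existsUnique (⟨e, hy⟩ : ↥M)).exists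
      refine ⟨c, ⟨c, hc', rfl⟩, ?_⟩
      have h := congrArg (fun z : ↥M => σ z.1) hnc
      simp only [Subgroup.coe_mul, map_mul] at h
      rwa [show σ (n : Γ) = 1 from hn, one_mul] at h
  · intro e he hp
    obtain ⟨⟨⟨n, hn⟩, ⟨c, hc'⟩⟩, hnc⟩ := (hC.existsUnique (⟨e, he⟩ : ↥M)).exists
    have hn' : (n : Γ) ∈ σ.ker := hn
    have hnc' : (n : Γ) * (c : Γ) = e := congrArg Subtype.val hnc
    obtain ⟨k, hk⟩ := hp
    have hCp : IsPGroup p C := IsPGroup.of_card (n := a) (by rw [← hN, hC.symm.index_eq_card])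
    obtain ⟨j, hj⟩ := hCp ⟨c, hc'⟩
    have hcj : (c : Γ) ^ p ^ j = 1 := congrArg (fun z : ↥C => ((z : ↥M) : Γ)) hj
    have hn1 : (n : Γ) ^ p ^ (k + j) = 1 := by
      have h1 : e ^ p ^ (k + j) = 1 := by rw [pow_add, pow_mul, hk, one_pow]
      have h2 : (c : Γ) ^ p ^ (k + j) = 1 := by rw [pow_add, mul_comm, pow_mul, hcj, one_pow]
      rw [← hnc', (show Commute (n : Γ) c from (mem_center_iff.1 (hc hn') c).symm).mul_pow, h2,
        mul_one] at h1
      exact h1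
    have hn2 : (n : Γ) = 1 := by
      have h3 : orderOf (n : Γ) ∣ Nat.card σ.ker := σ.ker.orderOf_dvd_natCard hn'
      exact orderOf_eq_one_iff.1 (Nat.eq_one_of_dvd_coprimes
        ((((Fact.out : p.Prime).coprime_iff_not_dvd).2 hco).pow_left (k + j))
        (orderOf_dvd_of_pow_eq_one hn1) h3)
    exact ⟨c, hc', by rw [← hnc', hn2, one_mul]; rfl⟩

variable {P : Subgroup G} (hc : σ.ker ≤ center Γ) (hco : ¬ p ∣ Nat.card σ.ker)
  (hP : IsPGroup p P)
include hc hco hP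

theorem mem_lifts_iff (hs : P ≤ σ.range) {e : Γ} : e ∈ lifts p σ P ↔ σ e ∈ P ∧ IsPElt p e := by
  refine ⟨fun he => ⟨lifts_le_comap P he, ?_⟩, fun h => mem_lifts h.1 h.2⟩
  obtain ⟨C, hC, -, -, hmem⟩ := exists_complement hc hco hP hs
  have hle : lifts p σ P ≤ C := (Subgroup.closure_le _).2 fun x hx => hmem x hx.1 hx.2
  obtain ⟨k, hk⟩ := hC ⟨e, hle he⟩
  exact ⟨k, congrArg Subtype.val hk⟩

theorem lifts_inf_ker (hs : P ≤ σ.range) : lifts p σ P ⊓ σ.ker = ⊥ := by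
  obtain ⟨C, -, hC, -, hmem⟩ := exists_complement hc hco hP hs
  have hle : lifts p σ P ≤ C := (Subgroup.closure_le _).2 fun x hx => hmem x hx.1 hx.2
  exact eq_bot_iff.2 (le_trans (inf_le_inf_right _ hle) hC.le)

theorem exists_lift (hs : P ≤ σ.range) {x : G} (hx : x ∈ P) : ∃ e ∈ lifts p σ P, σ e = x := by
  obtain ⟨C, hC, -, hmap, -⟩ := exists_complement hc hco hP hs
  obtain ⟨e, he, rfl⟩ := hmap.ge hx
  obtain ⟨k, hk⟩ := hC ⟨e, he⟩
  exact ⟨e, mem_lifts hx ⟨k, congrArg Subtype.val hk⟩, rfl⟩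

end CfsgLib.TwistCover
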