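import Cfsg.Agent.Lib.TwistCover.Generic
import Cfsg.Agent.Lib.Twisted.Weyl
import Cfsg.Agent.Lib.Twisted.Simple
import Cfsg.Agent.Lib.Chev.RadicalCentralizer

/-!
The root subgroups of a twisted group, the permutations of roots given by its rank one elements,
and their basic properties.
-/

set_option autoImplicit false
set_option linter.unusedSectionVars false

namespace CfsgLib.TwistCover

open Cfsg.Lie CfsgLib.Chev CfsgLib.Chevalley CfsgLib.Twisted

variable {D : ChevalleyDatum} {T : Tabs} {S : TwistSym D} {H : List ℤ}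

/-- The test: the words represent all permutations of roots given by words in the orbit reflections,
and they carry reflections to reflections. -/
def reflTest (S : TwistSym D) (words : List (List ℕ)) : Bool :=
  decide ([] ∈ words) &&
  words.all (fun u => S.repNodes.all fun i => words.any fun u' =>
    (List.range D.nroots).all fun r => decide (S.wWord u' r = S.wO i (S.wWord u r))) &&
  words.all (fun u => S.repNodes.all fun k => S.repNodes.all fun i =>
    decide (S.wWord u (D.simple k) < D.nroots / 2) ||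
    decide (D.nroots / 2 ≤ S.wO i (S.wWord u (D.simple k))) ||
    (List.range D.nroots).all fun r => decide (S.wO i (S.wWord u r) = S.wWord u (S.wO k r)))

/-- What is known about a symmetry of a datum. -/
structure Setup (D : ChevalleyDatum) (T : Tabs) (S : TwistSym D) (H : List ℤ)
    (words : List (List ℕ)) : Prop where
  hc : Checked D T
  hS : S.test = true
  hcomm : CommOne D T
  hO : S.orbitTest T = true
  hN : S.nodeTest H = true
  hT : S.bnTest = true
  refl : reflTest S words = true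

variable {words : List (List ℕ)} (W : Setup D T S H words) {K : Type*} [Field K] (φ : K ≃+* K)

/-- The orbit products at a root. -/
noncomputable def xSub {r : ℕ} (hr : r < D.nroots) : Subgroup (GL D.Idx K) where
  carrier := {g | ∃ t, IsPar S φ r t ∧ g = orbX W.hS φ r t}
  mul_mem' := by
    rintro _ _ ⟨t, ht, rfl⟩ ⟨u, hu, rfl⟩
    refine ⟨t + u, ?_, orbX_add W.hc W.hS φ hr t u⟩
    simp only [IsPar] at ht hu ⊢
    rw [iterate_map_add, ht, hu]
  one_mem' := ⟨0, isPar_zero φ r, (orbX_zero W.hc W.hS φ hr).symm⟩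
  inv_mem' := by
    rintro _ ⟨t, ht, rfl⟩
    refine ⟨-t, ?_, orbX_inv W.hc W.hS φ hr t⟩
    simp only [IsPar] at ht ⊢
    rw [iterate_map_neg, ht]

/-- The nodes representing their orbits. -/
abbrev Node (S : TwistSym D) : Type := {i : Fin D.rank // i.1 ∈ S.repNodes}

/-- The permutation of roots of a node. -/
noncomputable def wPerm (i : Node S) : Equiv.Perm (Fin D.nroots) where
  toFun a := ⟨S.wO i.1.1 a.1, wO_lt W.hc W.hS i.1.2 a.2⟩
  invFun a := ⟨S.wO i.1.1 a.1, wO_lt W.hc W.hS i.1.2 a.2⟩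
  left_inv a := Fin.ext ((TwistSym.wO_spec W.hN i.1.2 a.2).2.1)
  right_inv a := Fin.ext ((TwistSym.wO_spec W.hN i.1.2 a.2).2.1)

theorem wPerm_val (i : Node S) (a : Fin D.nroots) : (wPerm W i a).1 = S.wO i.1.1 a.1 := rfl

include W

theorem exists_word (v : List (Node S)) :
    ∃ u ∈ words, ∀ r : Fin D.nroots, ((v.map (wPerm W)).prod r).1 = S.wWord u r.1 := by
  have hw := W.refl
  simp only [reflTest, Bool.and_eq_true, decide_eq_true_eq, List.all_eq_true, List.any_eq_true,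
    List.mem_range] at hw
  induction v with
  | nil => exact ⟨[], hw.1.1, fun r => rfl⟩
  | cons i v ih =>
    obtain ⟨u, hu, hur⟩ := ih
    obtain ⟨u', hu', h⟩ := hw.1.2 u hu i.1.1 i.2
    refine ⟨u', hu', fun r => ?_⟩
    rw [List.map_cons, List.prod_cons, Equiv.Perm.mul_apply, wPerm_val, hur, h r.1 r.2]

theorem word_refl (v : List (Node S)) (k i : Node S)
    (h1 : D.nroots / 2 ≤ ((v.map (wPerm W)).prod ⟨D.simple k.1.1, simple_lt W.hc k.1.2⟩).1)
    (h2 : ¬ D.nroots / 2 ≤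
      (wPerm W i ((v.map (wPerm W)).prod ⟨D.simple k.1.1, simple_lt W.hc k.1.2⟩)).1) :
    wPerm W i * (v.map (wPerm W)).prod = (v.map (wPerm W)).prod * wPerm W k := by
  have hw := W.refl
  simp only [reflTest, Bool.and_eq_true, decide_eq_true_eq, List.all_eq_true, List.any_eq_true,
    List.mem_range, Bool.or_eq_true] at hw
  obtain ⟨u, hu, hur⟩ := exists_word W v
  rw [wPerm_val, hur] at h2
  rw [hur] at h1
  change D.nroots / 2 ≤ S.wWord u (D.simple k.1.1) at h1
  have := ((hw.2 u hu k.1.1 k.2 i.1.1 i.2).resolve_left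
    (fun h => h.elim (fun h => by omega) h2))
  refine Equiv.ext fun r => Fin.ext ?_
  rw [Equiv.Perm.mul_apply, Equiv.Perm.mul_apply, wPerm_val, hur, hur, wPerm_val]
  exact this r.1 r.2

theorem xSub_le_twist {r : ℕ} (hr : r < D.nroots) : xSub W φ hr ≤ twistGrp W.hS φ := by
  rintro _ ⟨t, ht, rfl⟩
  exact orbX_mem W.hc W.hS φ W.hN hr ht

theorem xSub_img {r : ℕ} (hr : r < D.nroots) :
    xSub W φ (TwistSym.img_lt W.hS hr) = xSub W φ hr := by
  apply le_antisymm
  · rintro _ ⟨t, ht, rfl⟩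
    obtain ⟨u, hu, e⟩ := orbX_iter W.hc W.hS φ W.hN W.hT hr 1 (t := t) ht
    exact ⟨u, hu, e⟩
  · rintro _ ⟨t, ht, rfl⟩
    refine ⟨_, ?_, (orbX_img W.hc W.hS φ hr ht).symm⟩
    simp only [IsPar] at ht ⊢
    rw [TwistSym.olen_img W.hc W.hS hr, iterate_map_mul, ← Function.iterate_succ_apply,
      Function.iterate_succ_apply', ht]
    congr 1
    exact Function.iterate_fixed (map_intCast φ _) _

theorem xSub_congr {r r' : ℕ} (hr : r < D.nroots) (hr' : r' < D.nroots) (e : r = r') :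
    xSub W φ hr = xSub W φ hr' := by subst e; rfl

theorem xSub_imgIter {r : ℕ} (hr : r < D.nroots) (k : ℕ) :
    xSub W φ (TwistSym.imgIter_lt W.hS hr k) = xSub W φ hr := by
  induction k with
  | zero => rfl
  | succ k ih => exact (xSub_img W φ (TwistSym.imgIter_lt W.hS hr k)).trans ih

theorem nOrb_conj_xSub {i : ℕ} (hi : i < D.rank) {r : ℕ} (hr : r < D.nroots) {g : GL D.Idx K}
    (hg : g ∈ xSub W φ hr) :
    nOrb W.hS φ i * g * (nOrb W.hS φ i)⁻¹ ∈ xSub W φ (wO_lt W.hc W.hS hi hr) := by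
  obtain ⟨t, ht, rfl⟩ := hg
  obtain ⟨-, -, e, -, hp, heq⟩ := nOrb_conj W.hc W.hS φ W.hN hi hr ht
  exact ⟨_, hp, heq⟩

theorem diag_conj_xSub {h : GL D.Idx K} (hh : h ∈ D.diagonalSubgroup K) (hf : h ∈ twistGrp W.hS φ)
    {r : ℕ} (hr : r < D.nroots) {g : GL D.Idx K} (hg : g ∈ xSub W φ hr) :
    h * g * h⁻¹ ∈ xSub W φ hr := by
  obtain ⟨t, ht, rfl⟩ := hg
  obtain ⟨c, hcx⟩ := diagonal_conj_elX W.hc hh hr
  obtain ⟨hp, heq⟩ := fixed_orbX_conj W.hc W.hS φ (twistGrp_le_fixed W.hc W.hS φ hf) hr hr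
    (c := c) hcx ht
  exact ⟨_, hp, heq⟩

theorem xSub_le_pos {r : ℕ} (hr : r < D.nroots) (hp : D.nroots / 2 ≤ r) :
    xSub W φ hr ≤ D.posUnipotent K := by
  rintro _ ⟨t, -, rfl⟩
  exact orbX_mem_pos W.hc W.hS φ W.hO hr hp t

/-- Negative images of fundamental root subgroups are not in the positive part. -/
theorem exists_not_pos (v : List (Node S)) (k : Node S) :
    ∃ g ∈ xSub W φ ((v.map (wPerm W)).prod ⟨D.simple k.1.1, simple_lt W.hc k.1.2⟩).2, g ≠ 1 := by
  induction v with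
  | nil =>
    exact ⟨_, ⟨1, isPar_one φ _, rfl⟩, orbX_simple_ne_one W.hc W.hS φ W.hO k.2 one_ne_zero⟩
  | cons i v ih =>
    obtain ⟨g, hg, hne⟩ := ih
    refine ⟨nOrb W.hS φ i.1.1 * g * (nOrb W.hS φ i.1.1)⁻¹, ?_, fun h => hne (conj_eq_one_iff.1 h)⟩
    simp only [List.map_cons, List.prod_cons, Equiv.Perm.mul_apply]
    exact nOrb_conj_xSub W φ i.1.2 _ hg

theorem not_pos_of_neg {r : ℕ} (hr : r < D.nroots) (hn : r < D.nroots / 2) {g : GL D.Idx K}
    (hg : g ∈ xSub W φ hr) (hp : g ∈ D.posUnipotent K) : g = 1 := by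
  obtain ⟨t, -, rfl⟩ := hg
  refine borel_inf_neg W.hc ?_ (orbX_mem_neg W.hc W.hS φ W.hO hr hn t)
  exact Subgroup.mem_sup_left hp

/-- A positive root made negative by the reflection of an orbit lies in that orbit. -/
theorem flip_root {i : ℕ} (hi : i ∈ S.repNodes) {r : ℕ} (hr : r < D.nroots)
    (hp : D.nroots / 2 ≤ r) (hn : ¬ D.nroots / 2 ≤ S.wO i r) :
    ∃ k, r = S.imgIter k (D.simple i) ∧ D.neg r = S.imgIter k (D.neg (D.simple i)) := by
  obtain ⟨-, -, r₀, hr₀, k, -, e⟩ := TwistSym.pos_spec W.hO hr hp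
  have hi' := (mem_repNodes hi).1
  have hlt₀ := (mem_repList hr₀).1
  by_cases h0 : r₀ = D.simple i
  · subst h0
    refine ⟨k, e.symm, ?_⟩
    obtain ⟨-, h1, h2, -⟩ := TwistSym.imgIter_simple W.hc W.hS hi' k
    rw [h2, ← h1, e]
  · exfalso
    apply hn
    have hpos := TwistSym.wO_pos W.hT hi hr₀ h0
    have hiter : ∀ j, S.wO i (S.imgIter j r₀) = S.imgIter j (S.wO i r₀) := by
      intro j
      induction j with
      | zero => rfl
      | succ j ih =>
        show S.wO i (S.img _) = S.img _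
        rw [(TwistSym.wO_spec W.hN hi' (TwistSym.imgIter_lt W.hS hlt₀ j)).1, ih]
    rw [← e, hiter]
    exact (TwistSym.img_pos W.hO W.hS (wO_lt W.hc W.hS hi' hlt₀) hpos k).1

theorem rootPerm_nOrb {ρ : ↥(D.monomialSubgroup K) →* Equiv.Perm (Fin D.nroots)}
    (hρ : ∀ (n : ↥(D.monomialSubgroup K)) (r : Fin D.nroots),
      IsImg D (n : GL D.Idx K) r.1 (ρ n r).1) (i : Node S) :
    ρ ⟨nOrb W.hS φ i.1.1, nOrb_mem_monomial W.hc W.hS φ i.1.2⟩ = wPerm W i := by
  refine Equiv.ext fun r => Fin.ext ?_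
  obtain ⟨hlt, e1, -, h1⟩ := wK_conj W.hc W.hS φ (S.olen (D.simple i.1.1)) i.1.2 r.2 (1 : K)
  obtain ⟨v, c, hv, hcx, -⟩ := monomial_conj_elX W.hc (nOrb_mem_monomial W.hc W.hS φ i.1.2) r.2
  have hv' : v = S.wO i.1.1 r.1 :=
    elX_root_unique W.hc hv hlt (by simp : (c : K) * 1 ≠ 0) ((hcx 1).symm.trans h1)
  rw [wPerm_val]
  refine IsImg.unique W.hc (Fin.isLt _) hlt (hρ _ r) ⟨c, fun t => ?_⟩
  rw [← hv']
  exact hcx t

theorem word_perm {ρ : ↥(D.monomialSubgroup K) →* Equiv.Perm (Fin D.nroots)}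
    (hρ : ∀ (n : ↥(D.monomialSubgroup K)) (r : Fin D.nroots),
      IsImg D (n : GL D.Idx K) r.1 (ρ n r).1) (v : List (Node S)) :
    ρ (v.map fun i : Node S =>
      (⟨nOrb W.hS φ i.1.1, nOrb_mem_monomial W.hc W.hS φ i.1.2⟩ : ↥(D.monomialSubgroup K))).prod =
      (v.map (wPerm W)).prod := by
  rw [map_list_prod, List.map_map]
  exact congrArg List.prod (List.map_congr_left fun i _ => rootPerm_nOrb W φ hρ i)

theorem word_monomial (v : List (Node S)) :
    (v.map fun i : Node S => nOrb W.hS φ i.1.1).prod ∈ D.monomialSubgroup K :=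
  Subgroup.list_prod_mem _ fun _ hx => by
    obtain ⟨i, -, rfl⟩ := List.mem_map.1 hx
    exact nOrb_mem_monomial W.hc W.hS φ i.1.2

theorem conj_n_diag (v : List (Node S)) (k i : Node S)
    (h1 : D.nroots / 2 ≤ ((v.map (wPerm W)).prod ⟨D.simple k.1.1, simple_lt W.hc k.1.2⟩).1)
    (h2 : ¬ D.nroots / 2 ≤
      (wPerm W i ((v.map (wPerm W)).prod ⟨D.simple k.1.1, simple_lt W.hc k.1.2⟩)).1) :
    (v.map fun i : Node S => nOrb W.hS φ i.1.1).prod * nOrb W.hS φ k.1.1 *
      ((v.map fun i : Node S => nOrb W.hS φ i.1.1).prod)⁻¹ * (nOrb W.hS φ i.1.1)⁻¹ ∈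
        D.diagonalSubgroup K := by
  obtain ⟨ρ, hρ⟩ := exists_rootPerm W.hc (K := K)
  let m : Node S → ↥(D.monomialSubgroup K) := fun i =>
    ⟨nOrb W.hS φ i.1.1, nOrb_mem_monomial W.hc W.hS φ i.1.2⟩
  have hkey : ρ ((v.map m).prod * m k * ((v.map m).prod)⁻¹ * (m i)⁻¹) = 1 := by
    simp only [map_mul, map_inv, m, word_perm W φ hρ, rootPerm_nOrb W φ hρ]
    rw [← word_refl W v k i h1 h2]
    group
  have := (rootPerm_ker W.hc hρ _).1 hkey
  have hval : ((v.map m).prod : GL D.Idx K) = (v.map fun i : Node S => nOrb W.hS φ i.1.1).prod := by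
    rw [SubmonoidClass.coe_list_prod, List.map_map]
    rfl
  simpa [m, hval] using this

end CfsgLib.TwistCover
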