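import Cfsg.Agent.Lib.TwistCover.Root
import Cfsg.Agent.Lib.Twisted.Torus
import Cfsg.Agent.Lib.ChevSL2.Hom
import Mathlib.FieldTheory.Finite.Basic

/-!
The homomorphism from `SL(2)` over the fixed field of an orbit onto its rank one subgroup.
-/

set_option autoImplicit false
set_option linter.unusedSectionVars false

namespace CfsgLib.TwistCover

open Cfsg.Lie CfsgLib.Chev CfsgLib.Chevalley CfsgLib.Twisted CfsgLib.SteinbergTwo
open scoped MatrixGroups

variable {D : ChevalleyDatum} {T : Tabs} {S : TwistSym D} {H : List ℤ} {words : List (List ℕ)}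
  (W : Setup D T S H words) {K : Type*} [Field K] (φ : K ≃+* K)

/-- The admissible parameters at a root, as a subfield. -/
def parField (S : TwistSym D) (φ : K ≃+* K) (r : ℕ) : Subfield K where
  carrier := {t | IsPar S φ r t}
  mul_mem' {a b} ha hb := by
    simp only [Set.mem_setOf_eq, IsPar] at ha hb ⊢
    rw [iterate_map_mul, ha, hb]
  one_mem' := isPar_one φ r
  add_mem' {a b} ha hb := by
    simp only [Set.mem_setOf_eq, IsPar] at ha hb ⊢
    rw [iterate_map_add, ha, hb]
  zero_mem' := isPar_zero φ r
  neg_mem' {a} ha := by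
    simp only [Set.mem_setOf_eq, IsPar] at ha ⊢
    rw [iterate_map_neg, ha]
  inv_mem' a ha := by
    simp only [Set.mem_setOf_eq, IsPar] at ha ⊢
    conv_rhs => rw [← ha]
    generalize S.olen r = n
    induction n with
    | zero => rfl
    | succ n ih => rw [Function.iterate_succ_apply', Function.iterate_succ_apply', ih, map_inv₀]

include W

/-- The homomorphism of a node. -/
theorem exists_orbit_hom (i : Node S) :
    ∃ ι : SL(2, parField S φ (D.simple i.1.1)) →* GL D.Idx K,
      (∀ (b : Bool) (t : parField S φ (D.simple i.1.1)), ι (img _ (b, t)) =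
        if b then orbX W.hS φ (D.simple i.1.1) t else orbX W.hS φ (D.neg (D.simple i.1.1)) t) ∧
      ∀ s : (parField S φ (D.simple i.1.1))ˣ,
        ι (hWord (fun b t => img _ (b, t)) (s : parField S φ (D.simple i.1.1))) =
          torus D T K (hPar D K (orbPar W.hS φ i.1 (Units.map (parField S φ (D.simple i.1.1)).subtype s))) := by
  set hS := W.hS
  set Fi := parField S φ (D.simple i.1.1)
  have hc := W.hc
  have hp := simple_lt hc i.1.2
  obtain ⟨h₀, -, h₀img⟩ := CfsgLib.ChevSL2.exists_hom hc (F := K) hp
  let f := (twistSigma S hS φ).toMonoidHom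
  have hgen : ∀ j k, j < S.olen (D.simple i.1.1) → k < S.olen (D.simple i.1.1) → j ≠ k →
      ∀ g g' : SL(2, K), Commute ((⇑f)^[j] (h₀ g)) ((⇑f)^[k] (h₀ g')) := by
    intro j k hj hk hjk
    have hbase : ∀ (b b' : Bool) (t t' : K),
        Commute ((⇑f)^[j] (CfsgLib.ChevSL2.rootPair D K (D.simple i.1.1) b t)) ((⇑f)^[k] (CfsgLib.ChevSL2.rootPair D K (D.simple i.1.1) b' t')) := by
      intro b b' t t'
      cases b <;> cases b'
      · exact commute_iter_elX hc hS φ (neg_lt hc hp) t t'
          (by rwa [TwistSym.olen_neg hc hS hp]) (by rwa [TwistSym.olen_neg hc hS hp])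
      · exact (commute_node_mixed hc hS φ W.hN i.1.2 t' t hk hj (Ne.symm hjk)).symm
      · exact commute_node_mixed hc hS φ W.hN i.1.2 t t' hj hk hjk
      · exact commute_iter_elX hc hS φ hp t t' hj hk
    have hstep : ∀ g : SL(2, K), ∀ b' t', Commute ((⇑f)^[j] (h₀ g))
        ((⇑f)^[k] (CfsgLib.ChevSL2.rootPair D K (D.simple i.1.1) b' t')) := by
      intro g b' t'
      have hg : g ∈ Subgroup.closure {g : SL(2, K) | ∃ b t, g = img K (b, t)} := by
        rw [CfsgLib.ChevSL2.closure_img]; trivial
      induction hg using Subgroup.closure_induction with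
      | mem x hx => obtain ⟨b, t, rfl⟩ := hx; rw [h₀img]; exact hbase b b' t t'
      | one => rw [map_one, iterate_map_one]; exact Commute.one_left _
      | mul x y _ _ hx hy => rw [map_mul, iterate_map_mul]; exact hx.mul_left hy
      | inv x _ hx => rw [map_inv, iterate_map_inv]; exact hx.inv_left
    intro g g'
    have hg : g' ∈ Subgroup.closure {g : SL(2, K) | ∃ b t, g = img K (b, t)} := by
      rw [CfsgLib.ChevSL2.closure_img]; trivial
    induction hg using Subgroup.closure_induction with
    | mem x hx => obtain ⟨b, t, rfl⟩ := hx; rw [h₀img]; exact hstep g b t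
    | one => rw [map_one, iterate_map_one]; exact Commute.one_right _
    | mul x y _ _ hx hy => rw [map_mul, iterate_map_mul]; exact hx.mul_right hy
    | inv x _ hx => rw [map_inv, iterate_map_inv]; exact hx.inv_right
  let j₀ : SL(2, Fi) →* SL(2, K) := Matrix.SpecialLinearGroup.map Fi.subtype
  let ι : SL(2, Fi) →* GL D.Idx K :=
    { toFun := fun g => orbProd (⇑f) (S.olen (D.simple i.1.1)) (h₀ (j₀ g))
      map_one' := by
        show orbProd _ _ _ = _
        rw [map_one, map_one]
        generalize S.olen (D.simple i.1.1) = n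
        induction n with
        | zero => simp [orbProd]
        | succ n ih => rw [orbProd_succ, ih, iterate_map_one, one_mul]
      map_mul' := fun g g' => by
        rw [map_mul, map_mul]
        exact orbProd_mul f _ _ _ fun j k hj hk hjk => hgen j k hj hk hjk _ _ }
  have himg : ∀ b t, ι (img Fi (b, t)) = orbProd (⇑(twistSigma S hS φ)) (S.olen (D.simple i.1.1))
      (CfsgLib.ChevSL2.rootPair D K (D.simple i.1.1) b (t : K)) := by
    intro b t
    have : j₀ (img Fi (b, t)) = img K (b, (t : K)) := by
      apply Subtype.ext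
      show (img Fi (b, t) : Matrix (Fin 2) (Fin 2) Fi).map Fi.subtype =
        (img K (b, (t : K)) : Matrix (Fin 2) (Fin 2) K)
      rw [coe_img, coe_img]
      cases b <;> ext a c <;> fin_cases a <;> fin_cases c <;> simp
    show orbProd _ _ (h₀ (j₀ (img Fi (b, t)))) = _
    rw [this, h₀img]
    rfl
  refine ⟨ι, fun b t => ?_, fun s => ?_⟩
  · rw [himg]
    cases b
    · rw [CfsgLib.ChevSL2.rootPair, if_neg Bool.false_ne_true, if_neg Bool.false_ne_true, orbX,
        TwistSym.olen_neg hc hS hp]
    · rw [CfsgLib.ChevSL2.rootPair, if_pos rfl, if_pos rfl, orbX]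
  · have hh : h₀ (j₀ (hWord (fun b t => img Fi (b, t)) (s : Fi))) =
        torus D T K (corChar D T (D.simple i.1.1) (Units.map Fi.subtype s)) := by
      rw [← CfsgLib.ChevSL2.hWord_rootPair hc hp]
      have hj : ∀ b t, h₀ (j₀ (img Fi (b, t))) =
          CfsgLib.ChevSL2.rootPair D K (D.simple i.1.1) b (t : K) := by
        intro b t
        have : j₀ (img Fi (b, t)) = img K (b, (t : K)) := by
          apply Subtype.ext
          show (img Fi (b, t) : Matrix (Fin 2) (Fin 2) Fi).map Fi.subtype =
            (img K (b, (t : K)) : Matrix (Fin 2) (Fin 2) K)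
          rw [coe_img, coe_img]
          cases b <;> ext a c <;> fin_cases a <;> fin_cases c <;> simp
        rw [this, h₀img]
      simp [hWord, wWord, map_mul, hj]
    show orbProd _ _ _ = _
    rw [hh]
    have hsingle : torus D T K (corChar D T (D.simple i.1.1) (Units.map Fi.subtype s)) =
        torus D T K (hPar D K (Pi.mulSingle i.1 (Units.map Fi.subtype s : Kˣ))) := by
      rw [hPar_eq_corChar hc, Finset.prod_eq_single i.1]
      · rw [Pi.mulSingle_eq_same]
      · intro j _ hj; rw [Pi.mulSingle_eq_of_ne hj, corChar_one]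
      · simp
    rw [hsingle]
    unfold orbPar
    show orbProd _ _ _ = _
    generalize S.olen (D.simple i.1.1) = n
    induction n with
    | zero => simp [orbProd]
    | succ n ih =>
      rw [Finset.prod_range_succ, map_mul, map_mul, ← ih, orbProd_succ, ← twistSigma_iter_torus hc hS φ]
      rfl

end CfsgLib.TwistCover
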